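import Groth.Prelude.Def_WittGrp
import Groth.Agent.CommAlg4.LangFixed
import Mathlib.RingTheory.WittVector.Complete

/-!
# Fixed points and `T - 1` for semilinear maps over fields and truncated Witt vectors
-/

set_option autoImplicit false

universe u v

namespace Groth.Agent.SigmaLinFin

section Field

variable {k : Type u} [Field k] {V : Type v} [AddCommGroup V] [Module k V]

theorem finite_fixed [FiniteDimensional k V] (τ : k →+* k) (hτ : {c : k | τ c = c}.Finite)
    (T : V →+ V) (hT : ∀ (c : k) (v : V), T (c • v) = τ c • T v) : {v : V | T v = v}.Finite := by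
  classical
  obtain ⟨s, hs, hsp, hli⟩ := exists_linearIndependent k {v : V | T v = v}
  have : Finite s := hli.finite
  have : Fintype s := Fintype.ofFinite s
  have : Finite {c : k // τ c = c} := hτ.to_subtype
  refine (Set.finite_range fun c : s → {c : k // τ c = c} => ∑ i, (c i : k) • (i : V)).subset fun v hv => ?_
  have hv' : v ∈ Submodule.span k (Set.range ((↑) : s → V)) := by
    rw [Subtype.range_coe, hsp]; exact Submodule.subset_span hv
  obtain ⟨c, rfl⟩ := (Submodule.mem_span_range_iff_exists_fun k).mp hv'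
  have h0 : ∀ i, τ (c i) - c i = 0 := by
    refine Fintype.linearIndependent_iff.mp hli _ ?_
    simp only [sub_smul, Finset.sum_sub_distrib]
    rw [sub_eq_zero]
    conv_rhs => rw [← (hv : T _ = _)]
    rw [map_sum]
    exact Finset.sum_congr rfl fun i _ => by rw [hT, (hs i.2 : T (i : V) = i)]
  exact ⟨fun i => ⟨c i, sub_eq_zero.mp (h0 i)⟩, rfl⟩

theorem finite_fixed_pow {q : ℕ} (hq : 2 ≤ q) : {c : k | c ^ q = c}.Finite := by
  classical
  refine ((Polynomial.X ^ q - Polynomial.X : Polynomial k).roots.toFinset.finite_toSet).subset fun c hc => ?_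
  have hne : (Polynomial.X ^ q - Polynomial.X : Polynomial k) ≠ 0 := by
    intro h
    have := congrArg (fun f => Polynomial.coeff f q) h
    simp [Polynomial.coeff_X, show ¬ 1 = q by omega] at this
  simp only [Finset.mem_coe, Multiset.mem_toFinset, Polynomial.mem_roots hne, Polynomial.IsRoot, Polynomial.eval_sub,
    Polynomial.eval_pow, Polynomial.eval_X, sub_eq_zero]
  exact hc

variable [IsAlgClosed k] (p : ℕ) [hp : Fact p.Prime] [CharP k p]
  (T : V →+ V) (hT : ∀ (c : k) (v : V), T (c • v) = (frobeniusEquiv k p).symm c • T v)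

/-- the image of the `n`-th iterate, a subspace -/
noncomputable def img (n : ℕ) : Submodule k V where
  carrier := Set.range T^[n]
  zero_mem' := ⟨0, iterate_map_zero T n⟩
  add_mem' := by rintro _ _ ⟨a, rfl⟩ ⟨b, rfl⟩; exact ⟨a + b, iterate_map_add T n a b⟩
  smul_mem' := by
    rintro c _ ⟨a, rfl⟩
    have key : ∀ n (c : k) (a : V), ∃ d : k, T^[n] (d • a) = c • T^[n] a := by
      intro n
      induction n with
      | zero => exact fun c a => ⟨c, rfl⟩
      | succ n ih =>
        intro c a
        obtain ⟨d, hd⟩ := ih (c ^ p) a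
        refine ⟨d, ?_⟩
        rw [Function.iterate_succ_apply', hd, hT, Function.iterate_succ_apply']
        congr 1
        rw [← frobenius_def, ← frobeniusEquiv_apply, RingEquiv.symm_apply_apply]
    obtain ⟨d, hd⟩ := key n c a
    exact ⟨d • a, hd⟩

theorem exists_stable [FiniteDimensional k V] :
    ∃ W : Submodule k V, (∀ n, W ≤ img p T hT n) ∧ (∃ N, W = img p T hT N) ∧
      ∀ w ∈ W, T w ∈ W ∧ ∃ w' ∈ W, T w' = w := by
  have hle : ∀ n, img p T hT (n + 1) ≤ img p T hT n := by
    rintro n _ ⟨a, rfl⟩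
    exact ⟨T a, (Function.iterate_succ_apply T n a).symm⟩
  obtain ⟨N, hN⟩ : ∃ N, img p T hT (N + 1) = img p T hT N := by
    by_contra h
    push Not at h
    have h1 : ∀ n, Module.finrank k (img p T hT n) + n ≤ Module.finrank k V := by
      intro n
      induction n with
      | zero => simpa using Submodule.finrank_le _
      | succ n ih =>
        have := Submodule.finrank_lt_finrank_of_lt (lt_of_le_of_ne (hle n) (h n))
        omega
    have := h1 (Module.finrank k V + 1)
    omega
  have hsucc : ∀ n, ∀ x, x ∈ img p T hT (n + 1) ↔ ∃ y ∈ img p T hT n, T y = x := by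
    intro n x
    constructor
    · rintro ⟨a, rfl⟩; exact ⟨_, ⟨a, rfl⟩, (Function.iterate_succ_apply' T n a).symm⟩
    · rintro ⟨_, ⟨a, rfl⟩, rfl⟩; exact ⟨a, Function.iterate_succ_apply' T n a⟩
  have hst : ∀ j, img p T hT (N + j) = img p T hT N := by
    intro j
    induction j with
    | zero => rfl
    | succ j ih =>
      ext x
      rw [← add_assoc, hsucc, ih, ← hsucc, hN]
  refine ⟨img p T hT N, fun n => ?_, ⟨N, rfl⟩, fun w hw => ⟨?_, ?_⟩⟩
  · rcases le_total n N with h | h
    · exact antitone_nat_of_succ_le hle h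
    · obtain ⟨j, rfl⟩ := Nat.exists_eq_add_of_le h
      exact (hst j).ge
  · rw [← hN, hsucc]; exact ⟨w, hw, rfl⟩
  · rwa [← hsucc, hN]

include hp hT in
theorem exists_fixed_basis [FiniteDimensional k V] (W : Submodule k V)
    (hW : ∀ w ∈ W, T w ∈ W ∧ ∃ w' ∈ W, T w' = w) :
    (∃ b : Module.Basis (Fin (Module.finrank k W)) k W, ∀ i, T (b i : V) = (b i : V)) ∧
      ∀ z ∈ W, ∃ y ∈ W, y - T y = z := by
  classical
  let b₀ := Module.finBasis k W
  choose a ha ha' using fun i => (hW _ (b₀ i).2).2
  let α : Fin (Module.finrank k W) → W := fun i => ⟨a i, ha i⟩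
  let φ : W →+ W :=
    { toFun := fun w => ∑ i, (b₀.repr w i) ^ p • α i
      map_zero' := by simp [zero_pow hp.out.ne_zero]
      map_add' := fun x y => by
        simp only [map_add, Finsupp.add_apply, add_pow_char, add_smul, Finset.sum_add_distrib] }
  have hφdef : ∀ w, φ w = ∑ i, (b₀.repr w i) ^ p • α i := fun w => rfl
  have hφ : ∀ (c : k) (w : W), φ (c • w) = c ^ p • φ w := fun c w => by
    simp only [hφdef, map_smul, Finsupp.smul_apply, smul_eq_mul, mul_pow, Finset.smul_sum, smul_smul]
  have hTφ : ∀ w : W, T (φ w : V) = w := by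
    intro w
    conv_rhs => rw [← b₀.sum_repr w]
    simp only [hφdef, α, Submodule.coe_sum, map_sum, Submodule.coe_smul, hT, ha']
    refine Finset.sum_congr rfl fun i _ => ?_
    rw [← frobenius_def, ← frobeniusEquiv_apply, RingEquiv.symm_apply_apply]
  have hinj : Function.Injective φ := fun x y h => Subtype.ext (by rw [← hTφ x, h, hTφ])
  constructor
  · obtain ⟨ι, b, hb⟩ := CommAlg4.LangFixed.exists_basis_fixed hp.out.two_le φ hφ hinj
    have : Fintype ι := FiniteDimensional.fintypeBasisIndex b
    let e := Fintype.equivFinOfCardEq (Module.finrank_eq_card_basis b).symm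
    refine ⟨b.reindex e, fun i => ?_⟩
    rw [Module.Basis.reindex_apply]
    conv_lhs => rw [← hb (e.symm i)]
    exact hTφ _
  · intro z hz
    obtain ⟨x, hx⟩ := CommAlg4.LangFixed.surjective_sub_id hp.out.two_le φ hφ hinj ⟨z, hz⟩
    refine ⟨φ x, (φ x).2, ?_⟩
    rw [hTφ x]
    exact congrArg Subtype.val hx

include hp hT in
theorem surjective_sub_symm [FiniteDimensional k V] (v : V) : ∃ y, y - T y = v := by
  obtain ⟨W, -, ⟨N, hN⟩, hW⟩ := exists_stable p T hT
  obtain ⟨y, -, hy⟩ := (exists_fixed_basis p T hT W hW).2 (T^[N] v) (hN ▸ ⟨v, rfl⟩)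
  refine ⟨∑ i ∈ Finset.range N, T^[i] v + y, ?_⟩
  rw [map_add, map_sum, add_sub_add_comm, hy, ← Finset.sum_sub_distrib]
  have h : ∀ i, T^[i] v - T (T^[i] v) = T^[i] v - T^[i + 1] v := fun i => by
    rw [Function.iterate_succ_apply']
  simp only [h]
  rw [Finset.sum_range_sub' (fun i => T^[i] v)]
  simp

include hp hT in
theorem exists_basis_iInf [FiniteDimensional k V] :
    ∃ b : Module.Basis (Fin (Module.finrank k ↥(⨅ n : ℕ, Submodule.span k (Set.range T^[n])))) k
        ↥(⨅ n : ℕ, Submodule.span k (Set.range T^[n])),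
      ∀ i, T (b i : V) = (b i : V) := by
  obtain ⟨W, hle, ⟨N, hN⟩, hW⟩ := exists_stable p T hT
  have he : (⨅ n : ℕ, Submodule.span k (Set.range T^[n])) = W := by
    have h : ∀ n, Submodule.span k (Set.range T^[n]) = img p T hT n := fun n =>
      Submodule.span_eq (img p T hT n)
    simp only [h]
    exact le_antisymm ((iInf_le _ N).trans hN.ge) (le_iInf hle)
  rw [he]
  exact (exists_fixed_basis p T hT W hW).1

end Field

section Ring

variable {A : Type u} [CommRing A] {k : Type u} [Field k] (π : A) (N : ℕ) (hπ : π ^ N = 0)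
  (e : A →+* k) (he : Function.Surjective e) (hker : RingHom.ker e ≤ Ideal.span {π})
  (σ : A →+* A) (τ : k →+* k) (hστ : ∀ a, e (σ a) = τ (e a)) (hσπ : σ π = π)

include he hker hστ in
theorem exists_vector_space {M : Type v} [AddCommGroup M] [Module A M] [Module.Finite A M]
    (hM : ∀ m : M, π • m = 0) (T : M →ₛₗ[σ] M) :
    ∃ _ : Module k M, Module.Finite k M ∧ ∀ (c : k) (m : M), T (c • m) = τ c • T m := by
  obtain ⟨g, hg⟩ := he.hasRightInverse
  let f : A →+* AddMonoid.End M := Module.toAddMonoidEnd A M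
  have hle : RingHom.ker e ≤ RingHom.ker f := fun a ha => by
    obtain ⟨b, rfl⟩ := Ideal.mem_span_singleton'.mp (hker ha)
    rw [RingHom.mem_ker]
    ext m
    change (b * π) • m = 0
    rw [mul_smul, hM, smul_zero]
  let F : k →+* AddMonoid.End M := e.liftOfRightInverse g hg ⟨f, hle⟩
  have hF : ∀ a, F (e a) = f a := RingHom.liftOfRightInverse_comp_apply e g hg ⟨f, hle⟩
  letI inst : Module k M := Module.compHom M F
  have hsm : ∀ (a : A) (m : M), e a • m = a • m := fun a m => by
    change F (e a) m = _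
    rw [hF]; rfl
  refine ⟨inst, ?_, fun c m => ?_⟩
  · obtain ⟨s, hs⟩ := Module.Finite.fg_top (R := A) (M := M)
    refine ⟨⟨s, ?_⟩⟩
    rw [eq_top_iff]
    intro m _
    have hm : m ∈ Submodule.span A (s : Set M) := hs ▸ Submodule.mem_top
    induction hm using Submodule.span_induction with
    | mem x hx => exact Submodule.subset_span hx
    | zero => exact zero_mem _
    | add x y _ _ hx hy => exact add_mem (hx trivial) (hy trivial)
    | smul a x _ hx => rw [← hsm]; exact Submodule.smul_mem _ _ (hx trivial)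
  · obtain ⟨a, rfl⟩ := he c
    rw [hsm, T.map_smulₛₗ, ← hστ, hsm]

include hπ he hker hστ hσπ in
theorem finite_fixed_of_field
    (hk : ∀ (V : Type v) [AddCommGroup V] [Module k V] [FiniteDimensional k V] (T : V →+ V),
      (∀ (c : k) (x : V), T (c • x) = τ c • T x) → {x : V | T x = x}.Finite)
    {M : Type v} [AddCommGroup M] [Module A M] [Module.Finite A M] (T : M →ₛₗ[σ] M) :
    {m : M | T m = m}.Finite := by
  suffices ∀ (j : ℕ) (M : Type v) [AddCommGroup M] [Module A M] [Module.Finite A M] (T : M →ₛₗ[σ] M),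
      (∀ m : M, π ^ j • m = 0) → {m : M | T m = m}.Finite from
    this N M T fun m => by rw [hπ, zero_smul]
  intro j
  induction j with
  | zero =>
    intro M _ _ _ T h
    have : Subsingleton M := subsingleton_of_forall_eq 0 fun m => by simpa using h m
    exact Set.toFinite _
  | succ j ih =>
    intro M _ _ _ T h
    let L : Submodule A M := LinearMap.range (LinearMap.lsmul A M π)
    have hTL : ∀ x ∈ L, T x ∈ L := by
      rintro _ ⟨x, rfl⟩
      exact ⟨T x, by simp [T.map_smulₛₗ, hσπ]⟩
    have : Module.Finite A L := Module.Finite.range _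
    let TL : L →ₛₗ[σ] L :=
      { toFun := fun x => ⟨T x, hTL x x.2⟩
        map_add' := fun x y => Subtype.ext (map_add T _ _)
        map_smul' := fun a x => Subtype.ext (T.map_smulₛₗ _ _) }
    have h1 : {m : L | TL m = m}.Finite := ih L TL fun m => by
      obtain ⟨_, x, rfl⟩ := m
      refine Subtype.ext ?_
      simp [smul_smul, ← pow_succ, h]
    let TQ : (M ⧸ L) →ₛₗ[σ] (M ⧸ L) := L.mapQ L T hTL
    obtain ⟨inst, hfin, hsemi⟩ := exists_vector_space π e he hker σ τ hστ (M := M ⧸ L) (fun m => by
      obtain ⟨m, rfl⟩ := Submodule.Quotient.mk_surjective _ m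
      rw [← Submodule.Quotient.mk_smul, Submodule.Quotient.mk_eq_zero]
      exact ⟨m, rfl⟩) TQ
    have h2 : {m : M ⧸ L | TQ m = m}.Finite := hk (M ⧸ L) TQ.toAddMonoidHom hsemi
    refine Set.Finite.of_finite_fibers L.mkQ (h2.subset ?_) ?_
    · rintro _ ⟨m, hm, rfl⟩
      change Submodule.Quotient.mk (T m) = Submodule.Quotient.mk m
      rw [(hm : T m = m)]
    · rintro _ ⟨m₀, hm₀, rfl⟩
      refine (h1.image fun x : L => m₀ + (x : M)).subset ?_
      rintro m ⟨hm, hq⟩
      refine ⟨⟨m - m₀, (Submodule.Quotient.eq L).mp hq⟩, Subtype.ext ?_, by simp⟩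
      change T (m - m₀) = m - m₀
      rw [map_sub, (hm : T m = m), (hm₀ : T m₀ = m₀)]

include hπ he hker hστ hσπ in
theorem surjective_of_field
    (hk : ∀ (V : Type v) [AddCommGroup V] [Module k V] [FiniteDimensional k V] (T : V →+ V),
      (∀ (c : k) (x : V), T (c • x) = τ c • T x) → ∀ x : V, ∃ y, T y - y = x)
    {M : Type v} [AddCommGroup M] [Module A M] [Module.Finite A M] (T : M →ₛₗ[σ] M) :
    Function.Surjective fun m : M => T m - m := by
  intro m
  let L : Submodule A M := LinearMap.range (LinearMap.lsmul A M π)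
  have hTL : ∀ x ∈ L, T x ∈ L := by
    rintro _ ⟨x, rfl⟩
    exact ⟨T x, by simp [T.map_smulₛₗ, hσπ]⟩
  let TQ : (M ⧸ L) →ₛₗ[σ] (M ⧸ L) := L.mapQ L T hTL
  obtain ⟨inst, hfin, hsemi⟩ := exists_vector_space π e he hker σ τ hστ (M := M ⧸ L) (fun m => by
    obtain ⟨m, rfl⟩ := Submodule.Quotient.mk_surjective _ m
    rw [← Submodule.Quotient.mk_smul, Submodule.Quotient.mk_eq_zero]
    exact ⟨m, rfl⟩) TQ
  have step : ∀ x : M, ∃ w z : M, T w - w - x = π • z := by
    intro x
    obtain ⟨y, hy⟩ := hk (M ⧸ L) TQ.toAddMonoidHom hsemi (Submodule.Quotient.mk x)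
    obtain ⟨w, rfl⟩ := Submodule.Quotient.mk_surjective _ y
    obtain ⟨z, hz⟩ := (Submodule.Quotient.eq L).mp (show Submodule.Quotient.mk (T w - w) = Submodule.Quotient.mk x from hy)
    exact ⟨w, z, hz.symm⟩
  have key : ∀ j : ℕ, ∃ u x : M, T u - u - m = π ^ j • x := by
    intro j
    induction j with
    | zero => exact ⟨0, -m, by simp⟩
    | succ j ih =>
      obtain ⟨u, x, hux⟩ := ih
      obtain ⟨w, z, hwz⟩ := step x
      refine ⟨u - π ^ j • w, -z, ?_⟩
      rw [map_sub, T.map_smulₛₗ, map_pow, hσπ, pow_succ, mul_smul, smul_neg, ← hwz, smul_neg,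
        smul_sub, smul_sub, ← hux]
      abel
  obtain ⟨u, x, hux⟩ := key N
  exact ⟨u, by rw [← sub_eq_zero, hux, hπ, zero_smul]⟩

end Ring

section Witt

variable (p : ℕ) [hp : Fact p.Prime] (k : Type u) [Field k] [CharP k p] [IsAlgClosed k] (n : ℕ)

theorem witt_data (σ : TruncatedWittVector p n k →+* TruncatedWittVector p n k)
    (hσ : σ = WittGrp.truncMap p n (frobenius k p) ∨
      σ = WittGrp.truncMap p n (frobeniusEquiv k p).symm.toRingHom) (hn : n ≠ 0) :
    ∃ (e : TruncatedWittVector p n k →+* k) (τ : k →+* k),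
      Function.Surjective e ∧ RingHom.ker e ≤ Ideal.span {(p : TruncatedWittVector p n k)} ∧
      (∀ a, e (σ a) = τ (e a)) ∧ (τ = frobenius k p ∨ τ = (frobeniusEquiv k p).symm.toRingHom) := by
  have ht : Function.Surjective (WittVector.truncate (p := p) (R := k) n) :=
    WittVector.truncate_surjective p n k
  obtain ⟨g, hg⟩ := ht.hasRightInverse
  have hle : RingHom.ker (WittVector.truncate (p := p) (R := k) n) ≤
      RingHom.ker (WittVector.constantCoeff : WittVector p k →+* k) := fun x hx =>
    (WittVector.mem_ker_truncate n x).mp hx 0 (Nat.pos_of_ne_zero hn)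
  let e := (WittVector.truncate (p := p) (R := k) n).liftOfRightInverse g hg ⟨WittVector.constantCoeff, hle⟩
  have hE : ∀ x, e (WittVector.truncate n x) = x.coeff 0 :=
    RingHom.liftOfRightInverse_comp_apply _ g hg ⟨WittVector.constantCoeff, hle⟩
  have h1 : Function.Surjective e := fun c =>
    ⟨WittVector.truncate n (WittVector.teichmuller p c), by rw [hE, WittVector.teichmuller_coeff_zero]⟩
  have h2 : RingHom.ker e ≤ Ideal.span {(p : TruncatedWittVector p n k)} := by
    intro a ha
    obtain ⟨x, rfl⟩ := ht a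
    rw [RingHom.mem_ker, hE] at ha
    obtain ⟨y, rfl⟩ : ∃ y, y * (p : WittVector p k) = x := Ideal.mem_span_singleton'.mp (by
      rw [← WittVector.ker_constantCoeff]; exact ha)
    rw [map_mul, map_natCast]
    exact Ideal.mul_mem_left _ _ (Ideal.mem_span_singleton_self _)
  have h3 : ∀ (f : k →+* k) a, e (WittGrp.truncMap p n f a) = f (e a) := by
    intro f a
    obtain ⟨x, rfl⟩ := ht a
    rw [WittGrp.truncMap_truncate, hE, hE, WittVector.map_coeff]
  rcases hσ with rfl | rfl
  · exact ⟨e, _, h1, h2, h3 _, Or.inl rfl⟩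
  · exact ⟨e, _, h1, h2, h3 _, Or.inr rfl⟩

theorem natCast_p_pow_eq_zero : (p : TruncatedWittVector p n k) ^ n = 0 := by
  rw [← map_natCast (WittVector.truncate (p := p) (R := k) n), ← map_pow]
  refine TruncatedWittVector.ext fun i => ?_
  rw [WittVector.coeff_truncate, TruncatedWittVector.coeff_zero]
  exact WittVector.coeff_p_pow_eq_zero _ _ (Nat.ne_of_lt i.2)

theorem witt_subsingleton {M : Type v} [AddCommGroup M] [Module (TruncatedWittVector p 0 k) M] :
    Subsingleton M :=
  subsingleton_of_forall_eq 0 fun m => by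
    have h : (1 : TruncatedWittVector p 0 k) = 0 := TruncatedWittVector.ext fun i => i.elim0
    rw [← one_smul (TruncatedWittVector p 0 k) m, h, zero_smul]

theorem witt_finite_fixed (σ : TruncatedWittVector p n k →+* TruncatedWittVector p n k)
    (hσ : σ = WittGrp.truncMap p n (frobenius k p) ∨
      σ = WittGrp.truncMap p n (frobeniusEquiv k p).symm.toRingHom)
    {M : Type v} [AddCommGroup M] [Module (TruncatedWittVector p n k) M] [Module.Finite (TruncatedWittVector p n k) M]
    (T : M →ₛₗ[σ] M) : {m : M | T m = m}.Finite := by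
  rcases eq_or_ne n 0 with rfl | hn
  · have := witt_subsingleton p k (M := M)
    exact Set.toFinite _
  obtain ⟨e, τ, h1, h2, h3, hτ⟩ := witt_data p k n σ hσ hn
  refine finite_fixed_of_field (p : TruncatedWittVector p n k) n (natCast_p_pow_eq_zero p k n) e h1 h2 σ τ h3
    (map_natCast σ p) (fun V _ _ _ T hT => finite_fixed τ ?_ T hT) T
  refine (finite_fixed_pow (k := k) hp.out.two_le).subset fun c hc => ?_
  rcases hτ with rfl | rfl
  · exact hc
  · have h : (frobeniusEquiv k p).symm c = c := hc
    have := congrArg (frobeniusEquiv k p) h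
    rw [RingEquiv.apply_symm_apply, frobeniusEquiv_apply, frobenius_def] at this
    exact this.symm

theorem witt_surjective (σ : TruncatedWittVector p n k →+* TruncatedWittVector p n k)
    (hσ : σ = WittGrp.truncMap p n (frobenius k p) ∨
      σ = WittGrp.truncMap p n (frobeniusEquiv k p).symm.toRingHom)
    {M : Type v} [AddCommGroup M] [Module (TruncatedWittVector p n k) M] [Module.Finite (TruncatedWittVector p n k) M]
    (T : M →ₛₗ[σ] M) : Function.Surjective fun m : M => T m - m := by
  rcases eq_or_ne n 0 with rfl | hn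
  · have := witt_subsingleton p k (M := M)
    exact fun m => ⟨m, Subsingleton.elim _ _⟩
  obtain ⟨e, τ, h1, h2, h3, hτ⟩ := witt_data p k n σ hσ hn
  refine surjective_of_field (p : TruncatedWittVector p n k) n (natCast_p_pow_eq_zero p k n) e h1 h2 σ τ h3
    (map_natCast σ p) (fun V _ _ _ T hT x => ?_) T
  rcases hτ with rfl | rfl
  · exact CommAlg4.LangFixed.surjective_sub_id' hp.out.two_le T hT x
  · obtain ⟨y, hy⟩ := surjective_sub_symm p T hT (-x)
    exact ⟨y, by rw [← neg_sub, hy, neg_neg]⟩

end Witt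

end Groth.Agent.SigmaLinFin
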